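import Cfsg.Agent.Lib.Cert.J3.M
import Cfsg.Agent.Lib.Cert.Sch2

set_option autoImplicit false
set_option maxRecDepth 100000

namespace Cfsg.Agent.Ct.J3s.S3

open Cfsg.Agent.PC

open Cfsg.Agent.Fi Cfsg.Agent.Ct
def W_t : TL := (TL.node (TL.node (TL.node (TL.node (TL.leaf []) (TL.leaf [nat_lit 1, nat_lit 2, nat_lit 3, nat_lit 2, nat_lit 1, nat_lit 2, nat_lit 1, nat_lit 0, nat_lit 3, nat_lit 1, nat_lit 3, nat_lit 0, nat_lit 1, nat_lit 2, nat_lit 1, nat_lit 3, nat_lit 2, nat_lit 0, nat_lit 3, nat_lit 2, nat_lit 1, nat_lit 2, nat_lit 0, nat_lit 2, nat_lit 3, nat_lit 0, nat_lit 2, nat_lit 0])) (TL.leaf [nat_lit 2, nat_lit 0, nat_lit 1, nat_lit 2, nat_lit 3, nat_lit 1, nat_lit 2, nat_lit 3, nat_lit 2, nat_lit 0, nat_lit 3, nat_lit 2, nat_lit 1, nat_lit 3, nat_lit 0, nat_lit 2, nat_lit 0, nat_lit 2, nat_lit 3, nat_lit 1])) (TL.node (TL.node (TL.leaf [nat_lit 1, nat_lit 3, nat_lit 1, nat_lit 2, nat_lit 0, nat_lit 2, nat_lit 0, nat_lit 1, nat_lit 3, nat_lit 1, nat_lit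 3, nat_lit 0, nat_lit 3, nat_lit 2, nat_lit 0, nat_lit 3, nat_lit 2, nat_lit 0, nat_lit 3, nat_lit 0, nat_lit 3]) (TL.leaf [nat_lit 1, nat_lit 0, nat_lit 3, nat_lit 1, nat_lit 3, nat_lit 1, nat_lit 3, nat_lit 2, nat_lit 3, nat_lit 0, nat_lit 3, nat_lit 0, nat_lit 2, nat_lit 1, nat_lit 2, nat_lit 3, nat_lit 1, nat_lit 3, nat_lit 2, nat_lit 0, nat_lit 3, nat_lit 2])) (TL.leaf [nat_lit 0, nat_lit 2, nat_lit 0, nat_lit 3, nat_lit 1, nat_lit 2, nat_lit 1, nat_lit 3, nat_lit 2, nat_lit 3, nat_lit 1, nat_lit 3, nat_lit 1, nat_lit 3, nat_lit 1, nat_lit 3, nat_lit 1, nat_lit 0, nat_lit 3, nat_lit 2, nat_lit 0, nat_lit 3, nat_lit 1, nat_lit 3, nat_lit 1, nat_lit 3]))) (TL.node (TL.node (TL.node (TL.leaf [nat_lit 1, nat_lit 2, nat_lit 0, nat_lit 3, nat_lit 0, nat_lit 2, nat_lit 1, nat_lit 2, nat_lit 0, nat_lit 2, nat_lit 0, nat_lit 1, nat_lit 2, nat_lit 0, nat_lit 2, nat_lit 0, nat_lit 1, nat_lit 2]) (TL.leaf [nat_lit 1, nat_lit 2, nat_lit 3, nat_lit 0, nat_lit 3,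 nat_lit 0, nat_lit 3, nat_lit 0, nat_lit 2, nat_lit 1, nat_lit 0, nat_lit 2, nat_lit 0, nat_lit 1, nat_lit 2, nat_lit 3, nat_lit 2, nat_lit 3, nat_lit 2, nat_lit 3, nat_lit 1, nat_lit 0, nat_lit 3, nat_lit 1, nat_lit 3])) (TL.leaf [nat_lit 1, nat_lit 2, nat_lit 3, nat_lit 0, nat_lit 3, nat_lit 2, nat_lit 1, nat_lit 0, nat_lit 2, nat_lit 0, nat_lit 1, nat_lit 2, nat_lit 0, nat_lit 2, nat_lit 3, nat_lit 1, nat_lit 0, nat_lit 2, nat_lit 0, nat_lit 3, nat_lit 1, nat_lit 0, nat_lit 3, nat_lit 1])) (TL.node (TL.node (TL.leaf [nat_lit 0, nat_lit 1, nat_lit 2, nat_lit 1, nat_lit 3, nat_lit 2, nat_lit 0, nat_lit 2, nat_lit 0, nat_lit 1, nat_lit 2, nat_lit 1, nat_lit 2, nat_lit 1, nat_lit 0, nat_lit 3, nat_lit 1, nat_lit 2, nat_lit 1, nat_lit 0]) (TL.leaf [nat_lit 1, nat_lit 3, nat_lit 0, nat_lit 1, nat_lit 2, nat_lit 3, nat_lit 2, nat_lit 0, nat_lit 1, nat_lit 2, nat_lit 0])) (TL.leaf [nat_lit 0, nat_lit 2, nat_lit 0, nat_lit 1, nat_lit 0, nat_lit 2, nat_lit 0,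 nat_lit 3, nat_lit 2, nat_lit 1, nat_lit 0, nat_lit 3, nat_lit 1, nat_lit 2, nat_lit 1, nat_lit 0]))))
noncomputable def W (i : ℕ) : List ℕ := TL.get W_t i
def B : List ℕ := [nat_lit 2, nat_lit 0, nat_lit 1]
noncomputable def q (j : ℕ) : J3.P := ev J3.al (W j)
noncomputable def Q (j : ℕ) : ℕ → ℕ := trF J3.T (W j)
theorem md : Md J3.pt 6156 B q Q 12 := (J3.md0).words' (by decide +kernel)
def I (i : ℕ) : ℕ := Nat.land (Nat.shiftRight (nat_lit 0x40110481305000000000000000000000000000000000000000000000000000000000000000000000000000000000000000000000000000000000000000000000000000000000000000000000000000003c00000000000000000000000000000000000000000000000000000000000000000000000000000000000000000000000000000000000000000000000000000000000000000000000000000000000000380a000000000000000000000000000000000000000000000000000000000000000000000000000000000000000000000000000000000000000000000000000000000000000000000000000000000000340901800000000000000000000000000000000000000000000000000000000000000000000000000000000000000000000000000000000000000000000000000000000000000000000000000000000030080140300000000000000000000000000000000000000000000000000000000000000000000000000000000000000000000000000000000000000000000000000000000000000000000000000000002c0701002004000000000000000000000000000000000000000000000000000000000000000000000000000000000000000000000000000000000000000000000000000000000000000000000000000000000000000000)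 (Nat.mul (nat_lit 10) i)) (nat_lit 1023)
def Ru_t1 : TN := (TN.node (TN.node (TN.node (TN.node (TN.leaf (nat_lit 0)) (TN.leaf (nat_lit 0x60410c31450000000001851c2))) (TN.leaf (nat_lit 0x84000000000084082))) (TN.node (TN.node (TN.leaf (nat_lit 0x43000000000043082)) (TN.leaf (nat_lit 0x60410000000001810c2))) (TN.leaf (nat_lit 0x85000000000085082)))) (TN.node (TN.node (TN.node (TN.leaf (nat_lit 0x42000000000042082)) (TN.leaf (nat_lit 0x60430000000001830c2))) (TN.leaf (nat_lit 0x10420000000041040c3))) (TN.node (TN.leaf (nat_lit 0x30c3003)) (TN.leaf (nat_lit 0x2083105000000000105142)))))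
def Ru_t2 : TN := (TN.node (TN.node (TN.node (TN.node (TN.leaf (nat_lit 0x1041003)) (TN.leaf (nat_lit 0x181082104000000000184182))) (TN.leaf (nat_lit 0x10c40000000000c40c2))) (TN.node (TN.leaf (nat_lit 0x83000000000083082)) (TN.leaf (nat_lit 0x20c50000000000c50c2)))) (TN.node (TN.node (TN.node (TN.leaf (nat_lit 0x2082003)) (TN.leaf (nat_lit 0x60820000000001820c2))) (TN.leaf (nat_lit 0x45000000000045082))) (TN.node (TN.leaf (nat_lit 0x44000000000044082)) (TN.leaf (nat_lit 0x41082000000005145103)))))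
def Ru_t : TN := (TN.node Ru_t1 Ru_t2)
noncomputable def Ru (i : ℕ) : ℕ := TN.get Ru_t i
def D_t1 : TN := (TN.node (TN.node (TN.node (TN.node (TN.leaf (nat_lit 0x30000000000000001)) (TN.leaf (nat_lit 0x10000000000000000000000070000000000000011))) (TN.node (TN.leaf (nat_lit 0x6000000000000000000000000000000000000000000000000000000000000000000000000000000000000000000000009)) (TN.leaf (nat_lit 0x100000000000000000000000000000000000000000000000000000000)))) (TN.node (TN.node (TN.leaf (nat_lit 0x30000000000000000000000000000000000000000000000000000000000000000000000000000000000000000000000000000000000000000000000000000000000000000000000000000000100000005)) (TN.leaf (nat_lit 0x70000000800000000000000030000000000000000000000000000000000000000000000000000000100000000000000060000000300000000000000000000000000000002000000080000000100000015))) (TN.leaf (nat_lit 0x10000000000000000000000000000000d)))) (TN.node (TN.node (TN.node (TN.leaf (nat_lit 0x30000000000000000000000000000000000000003))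 (TN.leaf (nat_lit 0x10000000000000000000000080000000000000000000000010000000800000000000000060000000000000013))) (TN.leaf (nat_lit 0x1000000020000000000000000000000000000000000000000000000000000000b))) (TN.node (TN.node (TN.leaf (nat_lit 0x60000000000000000000000000000000000000000000000000000000000000000000000000000000000000007)) (TN.leaf (nat_lit 0x70000000700000000000000000000000300000001000000000000000600000002000000030000000000000000000000000000000000000002000000070000000300000002000000080000000200000017))) (TN.leaf (nat_lit 0x60000000000000000000000000000000000000000000000000000000000000006000000000000000800000000000000000000000f)))))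
def D_t2 : TN := (TN.node (TN.node (TN.node (TN.node (TN.leaf (nat_lit 0x300000000000000000000000000000002)) (TN.leaf (nat_lit 0x80000000000000000000000000000000000000000000000000000000000000000000000000000000000000001000000000000000300000000000000070000000800000000000000000000000000000012))) (TN.leaf (nat_lit 0x300000000000000000000000000000000000000000000000000000000000000000000000000000000000000000000000000000000000000030000000000000000000000010000000a))) (TN.node (TN.node (TN.leaf (nat_lit 0x600000000000000000000000000000000000000000000000000000006)) (TN.leaf (nat_lit 0x60000000000000001000000020000000000000006000000060000000800000008000000030000000400000007000000000000000800000016))) (TN.leaf (nat_lit 0x600000000000000000000000000000000000000060000000000000000000000080000000e)))) (TN.node (TN.node (TN.node (TN.leaf (nat_lit 0x300000000000000000000000000000000000000000000000000000000000000000000000000000000000000000000000000000000000000000000000000000001000000000000000000000004))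 (TN.leaf (nat_lit 0x800000000000000000000000000000000000000000000000100000001000000020000000000000000000000000000000000000000000000040000000000000000000000000000000000000014))) (TN.leaf (nat_lit 0x8000000000000000c))) (TN.node (TN.node (TN.leaf (nat_lit 0x60000000000000000000000000000000000000000000000000000000000000008)) (TN.leaf (nat_lit 0x700000008000000000000000000000000000000030000000200000002000000030000000000000007000000040000000600000001000000050000000100000002000000040000000800000018))) (TN.leaf (nat_lit 0x2000000020000000000000000000000000000000000000000000000000000000000000000000000000000000000000010)))))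
def D_t : TN := (TN.node D_t1 D_t2)
noncomputable def D (i : ℕ) : ℕ := TN.get D_t i
def La_t1 : TN := (TN.node (TN.node (TN.node (TN.node (TN.leaf (nat_lit 0x60300000006030000000600000800000000)) (TN.leaf (nat_lit 0x8000000000305000103040005010500000000000004010000))) (TN.leaf (nat_lit 0x8000000000000000000000000))) (TN.node (TN.leaf (nat_lit 0x10000000000000000000000)) (TN.leaf (nat_lit 0x8000000000000000000000000000000000000000000000000)))) (TN.node (TN.node (TN.node (TN.leaf (nat_lit 0)) (TN.leaf (nat_lit 0))) (TN.leaf (nat_lit 0))) (TN.node (TN.leaf (nat_lit 0)) (TN.leaf (nat_lit 0)))))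
def La_t2 : TN := (TN.node (TN.node (TN.node (TN.node (TN.leaf (nat_lit 0)) (TN.leaf (nat_lit 0))) (TN.leaf (nat_lit 0))) (TN.node (TN.leaf (nat_lit 0)) (TN.leaf (nat_lit 0)))) (TN.node (TN.node (TN.node (TN.leaf (nat_lit 0)) (TN.leaf (nat_lit 0))) (TN.leaf (nat_lit 0))) (TN.node (TN.leaf (nat_lit 0)) (TN.leaf (nat_lit 0)))))
def La_t3 : TN := (TN.node La_t1 La_t2)
def La_t4 : TN := (TN.node (TN.node (TN.node (TN.node (TN.leaf (nat_lit 0)) (TN.leaf (nat_lit 0x4000807050003040002040000050600000700000401010000))) (TN.leaf (nat_lit 0))) (TN.node (TN.leaf (nat_lit 0)) (TN.leaf (nat_lit 0)))) (TN.node (TN.node (TN.node (TN.leaf (nat_lit 0)) (TN.leaf (nat_lit 0))) (TN.leaf (nat_lit 0))) (TN.node (TN.leaf (nat_lit 0)) (TN.leaf (nat_lit 0)))))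
def La_t5 : TN := (TN.node (TN.node (TN.node (TN.node (TN.leaf (nat_lit 0)) (TN.leaf (nat_lit 0))) (TN.leaf (nat_lit 0))) (TN.node (TN.leaf (nat_lit 0)) (TN.leaf (nat_lit 0)))) (TN.node (TN.node (TN.node (TN.leaf (nat_lit 0)) (TN.leaf (nat_lit 0))) (TN.leaf (nat_lit 0))) (TN.node (TN.leaf (nat_lit 0)) (TN.leaf (nat_lit 0)))))
def La_t6 : TN := (TN.node La_t4 La_t5)
def La_t7 : TN := (TN.node La_t3 La_t6)
def La_t8 : TN := (TN.node (TN.node (TN.node (TN.node (TN.leaf (nat_lit 0)) (TN.leaf (nat_lit 0x4000000040207070808040005040400000100000505010000))) (TN.leaf (nat_lit 0x1060602000701080007010500000000000407020000))) (TN.node (TN.leaf (nat_lit 0)) (TN.leaf (nat_lit 0)))) (TN.node (TN.node (TN.node (TN.leaf (nat_lit 0)) (TN.leaf (nat_lit 0))) (TN.leaf (nat_lit 0))) (TN.node (TN.leaf (nat_lit 0)) (TN.leaf (nat_lit 0)))))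
def La_t9 : TN := (TN.node (TN.node (TN.node (TN.node (TN.leaf (nat_lit 0)) (TN.leaf (nat_lit 0))) (TN.leaf (nat_lit 0))) (TN.node (TN.leaf (nat_lit 0)) (TN.leaf (nat_lit 0)))) (TN.node (TN.node (TN.node (TN.leaf (nat_lit 0)) (TN.leaf (nat_lit 0))) (TN.leaf (nat_lit 0))) (TN.node (TN.leaf (nat_lit 0)) (TN.leaf (nat_lit 0)))))
def La_t10 : TN := (TN.node La_t8 La_t9)
def La_t11 : TN := (TN.node (TN.node (TN.node (TN.node (TN.leaf (nat_lit 0)) (TN.leaf (nat_lit 0))) (TN.leaf (nat_lit 0))) (TN.node (TN.leaf (nat_lit 0)) (TN.leaf (nat_lit 0)))) (TN.node (TN.node (TN.node (TN.leaf (nat_lit 0)) (TN.leaf (nat_lit 0))) (TN.leaf (nat_lit 0))) (TN.node (TN.leaf (nat_lit 0)) (TN.leaf (nat_lit 0)))))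
def La_t12 : TN := (TN.node (TN.node (TN.node (TN.node (TN.leaf (nat_lit 0)) (TN.leaf (nat_lit 0))) (TN.leaf (nat_lit 0))) (TN.node (TN.leaf (nat_lit 0)) (TN.leaf (nat_lit 0)))) (TN.node (TN.node (TN.node (TN.leaf (nat_lit 0)) (TN.leaf (nat_lit 0))) (TN.leaf (nat_lit 0))) (TN.node (TN.leaf (nat_lit 0)) (TN.leaf (nat_lit 0)))))
def La_t13 : TN := (TN.node La_t11 La_t12)
def La_t14 : TN := (TN.node La_t10 La_t13)
def La_t15 : TN := (TN.node La_t7 La_t14)
def La_t16 : TN := (TN.node (TN.node (TN.node (TN.node (TN.leaf (nat_lit 0)) (TN.leaf (nat_lit 0x4000000000307000807040007080700000000000004010000))) (TN.leaf (nat_lit 0x800000000020000000000000000000000))) (TN.node (TN.leaf (nat_lit 0x60000060300000006060000000600000305000000)) (TN.leaf (nat_lit 0x8000000000306000003040006000500000000000004010000)))) (TN.node (TN.node (TN.node (TN.leaf (nat_lit 0)) (TN.leaf (nat_lit 0))) (TN.leaf (nat_lit 0))) (TN.node (TN.leaf (nat_lit 0)) (TN.leaf (nat_lit 0)))))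
def La_t17 : TN := (TN.node (TN.node (TN.node (TN.node (TN.leaf (nat_lit 0)) (TN.leaf (nat_lit 0))) (TN.leaf (nat_lit 0))) (TN.node (TN.leaf (nat_lit 0)) (TN.leaf (nat_lit 0)))) (TN.node (TN.node (TN.node (TN.leaf (nat_lit 0)) (TN.leaf (nat_lit 0))) (TN.leaf (nat_lit 0))) (TN.node (TN.leaf (nat_lit 0)) (TN.leaf (nat_lit 0)))))
def La_t18 : TN := (TN.node La_t16 La_t17)
def La_t19 : TN := (TN.node (TN.node (TN.node (TN.node (TN.leaf (nat_lit 0)) (TN.leaf (nat_lit 0))) (TN.leaf (nat_lit 0))) (TN.node (TN.leaf (nat_lit 0)) (TN.leaf (nat_lit 0)))) (TN.node (TN.node (TN.node (TN.leaf (nat_lit 0)) (TN.leaf (nat_lit 0))) (TN.leaf (nat_lit 0))) (TN.node (TN.leaf (nat_lit 0)) (TN.leaf (nat_lit 0)))))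
def La_t20 : TN := (TN.node (TN.node (TN.node (TN.node (TN.leaf (nat_lit 0)) (TN.leaf (nat_lit 0))) (TN.leaf (nat_lit 0))) (TN.node (TN.leaf (nat_lit 0)) (TN.leaf (nat_lit 0)))) (TN.node (TN.node (TN.node (TN.leaf (nat_lit 0)) (TN.leaf (nat_lit 0))) (TN.leaf (nat_lit 0))) (TN.node (TN.leaf (nat_lit 0)) (TN.leaf (nat_lit 0)))))
def La_t21 : TN := (TN.node La_t19 La_t20)
def La_t22 : TN := (TN.node La_t18 La_t21)
def La_t23 : TN := (TN.node (TN.node (TN.node (TN.node (TN.leaf (nat_lit 0)) (TN.leaf (nat_lit 0))) (TN.leaf (nat_lit 0))) (TN.node (TN.leaf (nat_lit 0)) (TN.leaf (nat_lit 0)))) (TN.node (TN.node (TN.node (TN.leaf (nat_lit 0)) (TN.leaf (nat_lit 0))) (TN.leaf (nat_lit 0))) (TN.node (TN.leaf (nat_lit 0)) (TN.leaf (nat_lit 0)))))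
def La_t24 : TN := (TN.node (TN.node (TN.node (TN.node (TN.leaf (nat_lit 0)) (TN.leaf (nat_lit 0))) (TN.leaf (nat_lit 0))) (TN.node (TN.leaf (nat_lit 0)) (TN.leaf (nat_lit 0)))) (TN.node (TN.node (TN.node (TN.leaf (nat_lit 0)) (TN.leaf (nat_lit 0))) (TN.leaf (nat_lit 0))) (TN.node (TN.leaf (nat_lit 0)) (TN.leaf (nat_lit 0)))))
def La_t25 : TN := (TN.node La_t23 La_t24)
def La_t26 : TN := (TN.node (TN.node (TN.node (TN.node (TN.leaf (nat_lit 0)) (TN.leaf (nat_lit 0))) (TN.leaf (nat_lit 0))) (TN.node (TN.leaf (nat_lit 0)) (TN.leaf (nat_lit 0)))) (TN.node (TN.node (TN.node (TN.leaf (nat_lit 0)) (TN.leaf (nat_lit 0))) (TN.leaf (nat_lit 0))) (TN.node (TN.leaf (nat_lit 0)) (TN.leaf (nat_lit 0)))))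
def La_t27 : TN := (TN.node (TN.node (TN.node (TN.node (TN.leaf (nat_lit 0)) (TN.leaf (nat_lit 0))) (TN.leaf (nat_lit 0))) (TN.node (TN.leaf (nat_lit 0)) (TN.leaf (nat_lit 0)))) (TN.node (TN.node (TN.node (TN.leaf (nat_lit 0)) (TN.leaf (nat_lit 0))) (TN.leaf (nat_lit 0))) (TN.node (TN.leaf (nat_lit 0)) (TN.leaf (nat_lit 0)))))
def La_t28 : TN := (TN.node La_t26 La_t27)
def La_t29 : TN := (TN.node La_t25 La_t28)
def La_t30 : TN := (TN.node La_t22 La_t29)
def La_t : TN := (TN.node La_t15 La_t30)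
noncomputable def La (i : ℕ) : ℕ := TN.get La_t i
def Le_t : TN := (TN.leaf (nat_lit 0x603000006080003000300000000000008020000))
noncomputable def Le (i : ℕ) : ℕ := TN.get Le_t i
def C_t1 : TN := (TN.node (TN.node (TN.node (TN.node (TN.leaf (nat_lit 0)) (TN.leaf (nat_lit 0))) (TN.node (TN.leaf (nat_lit 0)) (TN.leaf (nat_lit 0)))) (TN.node (TN.node (TN.leaf (nat_lit 0)) (TN.leaf (nat_lit 0))) (TN.node (TN.leaf (nat_lit 0)) (TN.leaf (nat_lit 0))))) (TN.node (TN.node (TN.node (TN.leaf (nat_lit 0x70000000000000000000000000000000000000000000000000000000700000000000000000000000000000000000000000000000000000000000000000000000000000000)) (TN.leaf (nat_lit 0))) (TN.node (TN.leaf (nat_lit 0)) (TN.leaf (nat_lit 0)))) (TN.node (TN.node (TN.leaf (nat_lit 0)) (TN.leaf (nat_lit 0))) (TN.node (TN.leaf (nat_lit 0)) (TN.leaf (nat_lit 0))))))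
def C_t2 : TN := (TN.node (TN.node (TN.node (TN.node (TN.leaf (nat_lit 0x30000000000000000000000000000000000000000000000000000000400000007000000000000000000000000000000000000000000000000000000000000000000000000)) (TN.leaf (nat_lit 0))) (TN.node (TN.leaf (nat_lit 0)) (TN.leaf (nat_lit 0)))) (TN.node (TN.node (TN.leaf (nat_lit 0)) (TN.leaf (nat_lit 0))) (TN.node (TN.leaf (nat_lit 0)) (TN.leaf (nat_lit 0))))) (TN.node (TN.node (TN.node (TN.leaf (nat_lit 0)) (TN.leaf (nat_lit 0))) (TN.node (TN.leaf (nat_lit 0)) (TN.leaf (nat_lit 0)))) (TN.node (TN.node (TN.leaf (nat_lit 0)) (TN.leaf (nat_lit 0))) (TN.node (TN.leaf (nat_lit 0)) (TN.leaf (nat_lit 0))))))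
def C_t3 : TN := (TN.node C_t1 C_t2)
def C_t4 : TN := (TN.node (TN.node (TN.node (TN.node (TN.leaf (nat_lit 0x1000000000000000000000000000000000000000000000000000000000000000000000000)) (TN.leaf (nat_lit 0))) (TN.node (TN.leaf (nat_lit 0)) (TN.leaf (nat_lit 0)))) (TN.node (TN.node (TN.leaf (nat_lit 0)) (TN.leaf (nat_lit 0))) (TN.node (TN.leaf (nat_lit 0)) (TN.leaf (nat_lit 0))))) (TN.node (TN.node (TN.node (TN.leaf (nat_lit 0x700000000000000010000000000000000000000000000000700000008000000000000000000000000000000000000000000000000000000000000000000000000)) (TN.leaf (nat_lit 0))) (TN.node (TN.leaf (nat_lit 0)) (TN.leaf (nat_lit 0)))) (TN.node (TN.node (TN.leaf (nat_lit 0)) (TN.leaf (nat_lit 0))) (TN.node (TN.leaf (nat_lit 0)) (TN.leaf (nat_lit 0))))))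
def C_t5 : TN := (TN.node (TN.node (TN.node (TN.node (TN.leaf (nat_lit 0x30000000000000000000000010000000000000000000000000000000100000004000000000000000000000000000000000000000000000000000000000000000000000000)) (TN.leaf (nat_lit 0))) (TN.node (TN.leaf (nat_lit 0)) (TN.leaf (nat_lit 0)))) (TN.node (TN.node (TN.leaf (nat_lit 0)) (TN.leaf (nat_lit 0))) (TN.node (TN.leaf (nat_lit 0)) (TN.leaf (nat_lit 0))))) (TN.node (TN.node (TN.node (TN.leaf (nat_lit 0)) (TN.leaf (nat_lit 0))) (TN.node (TN.leaf (nat_lit 0)) (TN.leaf (nat_lit 0)))) (TN.node (TN.node (TN.leaf (nat_lit 0)) (TN.leaf (nat_lit 0))) (TN.node (TN.leaf (nat_lit 0)) (TN.leaf (nat_lit 0))))))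
def C_t6 : TN := (TN.node C_t4 C_t5)
def C_t : TN := (TN.node C_t3 C_t6)
noncomputable def C (i : ℕ) : ℕ := TN.get C_t i
def e (i : ℕ) : ℕ := Nat.land (Nat.shiftRight (nat_lit 3) (Nat.mul (nat_lit 2) i)) (nat_lit 3)
def U_t : TL := (TL.node (TL.node (TL.node (TL.node (TL.node (TL.leaf [nat_lit 1]) (TL.leaf [nat_lit 6])) (TL.leaf [nat_lit 2, nat_lit 2])) (TL.node (TL.node (TL.leaf [nat_lit 6]) (TL.leaf [nat_lit 6])) (TL.leaf [nat_lit 6]))) (TL.node (TL.node (TL.node (TL.leaf [nat_lit 2]) (TL.leaf [nat_lit 3])) (TL.leaf [nat_lit 4])) (TL.node (TL.node (TL.leaf [nat_lit 1, nat_lit 1]) (TL.leaf [nat_lit 6])) (TL.leaf [nat_lit 3, nat_lit 3])))) (TL.node (TL.node (TL.node (TL.node (TL.leaf [nat_lit 1]) (TL.leaf [nat_lit 6])) (TL.leaf [nat_lit 6])) (TL.node (TL.node (TL.leaf [nat_lit 1, nat_lit 1]) (TL.leaf [nat_lit 4, nat_lit 4])) (TL.leaf [nat_lit 3, nat_lit 3]))) (TL.node (TL.node (TL.node (TL.leaf [nat_lit 6]) (TL.leaf [nat_lit 6])) (TL.leaf [nat_lit 1]))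 (TL.node (TL.node (TL.leaf [nat_lit 2, nat_lit 2]) (TL.leaf [nat_lit 6])) (TL.leaf [nat_lit 5])))))
noncomputable def U (i : ℕ) : List ℕ := TL.get U_t i
def V1_t : TL := (TL.node (TL.node (TL.node (TL.node (TL.node (TL.leaf [nat_lit 2, nat_lit 2, nat_lit 2]) (TL.leaf [nat_lit 2, nat_lit 3])) (TL.leaf [nat_lit 2, nat_lit 5])) (TL.node (TL.node (TL.leaf [nat_lit 1, nat_lit 1, nat_lit 1]) (TL.leaf [nat_lit 4, nat_lit 4, nat_lit 4])) (TL.leaf [nat_lit 1, nat_lit 3]))) (TL.node (TL.node (TL.node (TL.leaf [nat_lit 3, nat_lit 3, nat_lit 3]) (TL.leaf [nat_lit 4, nat_lit 5])) (TL.leaf [nat_lit 4, nat_lit 4, nat_lit 4])) (TL.node (TL.node (TL.leaf [nat_lit 1, nat_lit 5]) (TL.leaf [nat_lit 5, nat_lit 5, nat_lit 5])) (TL.leaf [nat_lit 3, nat_lit 5])))) (TL.node (TL.node (TL.node (TL.node (TL.leaf [nat_lit 3, nat_lit 3, nat_lit 3]) (TL.leaf [nat_lit 3, nat_lit 4])) (TL.leaf [nat_lit 3, nat_lit 3, nat_lit 3])) (TL.node (TL.node (TL.leaf [nat_lit 1, nat_lit 4]) (TL.leaf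 [nat_lit 4, nat_lit 5])) (TL.leaf [nat_lit 3, nat_lit 4]))) (TL.node (TL.node (TL.node (TL.leaf [nat_lit 2, nat_lit 2, nat_lit 2]) (TL.leaf [nat_lit 3, nat_lit 5])) (TL.leaf [nat_lit 3, nat_lit 5])) (TL.node (TL.node (TL.leaf [nat_lit 2, nat_lit 4]) (TL.leaf [nat_lit 4, nat_lit 5])) (TL.leaf [nat_lit 5, nat_lit 5, nat_lit 5])))))
noncomputable def V1 (i : ℕ) : List ℕ := TL.get V1_t i
def V2_t : TL := (TL.node (TL.node (TL.node (TL.node (TL.node (TL.leaf []) (TL.leaf [nat_lit 3, nat_lit 2])) (TL.leaf [nat_lit 5, nat_lit 2])) (TL.node (TL.node (TL.leaf []) (TL.leaf [nat_lit 2, nat_lit 1, nat_lit 1])) (TL.leaf [nat_lit 3, nat_lit 1]))) (TL.node (TL.node (TL.node (TL.leaf []) (TL.leaf [nat_lit 5, nat_lit 4, nat_lit 3, nat_lit 2, nat_lit 2])) (TL.leaf [nat_lit 2, nat_lit 1, nat_lit 1])) (TL.node (TL.node (TL.leaf [nat_lit 5, nat_lit 1]) (TL.leaf [nat_lit 2, nat_lit 2, nat_lit 1, nat_lit 1])) (TL.leaf [nat_lit 5, nat_lit 3, nat_lit 2])))) (TL.node (TL.node (TL.node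 (TL.node (TL.leaf []) (TL.leaf [nat_lit 4, nat_lit 3, nat_lit 1])) (TL.leaf [])) (TL.node (TL.node (TL.leaf [nat_lit 4, nat_lit 1]) (TL.leaf [nat_lit 5, nat_lit 4, nat_lit 3, nat_lit 2, nat_lit 2])) (TL.leaf [nat_lit 4, nat_lit 3, nat_lit 1]))) (TL.node (TL.node (TL.node (TL.leaf []) (TL.leaf [nat_lit 5, nat_lit 3, nat_lit 2])) (TL.leaf [nat_lit 5, nat_lit 3, nat_lit 2])) (TL.node (TL.node (TL.leaf [nat_lit 4, nat_lit 2]) (TL.leaf [nat_lit 5, nat_lit 4, nat_lit 3, nat_lit 2, nat_lit 2])) (TL.leaf [nat_lit 2, nat_lit 2, nat_lit 1, nat_lit 1])))))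
noncomputable def V2 (i : ℕ) : List ℕ := TL.get V2_t i
def Y_t : TL := (TL.node (TL.node (TL.node (TL.leaf [nat_lit 3, nat_lit 3]) (TL.leaf [nat_lit 4, nat_lit 2])) (TL.leaf [nat_lit 2, nat_lit 2])) (TL.node (TL.leaf [nat_lit 2, nat_lit 1]) (TL.leaf [nat_lit 5, nat_lit 5, nat_lit 3, nat_lit 2, nat_lit 1, nat_lit 1])))
noncomputable def Y (i : ℕ) : List ℕ := TL.get Y_t i
def O_t : TL := (TL.node (TL.node (TL.node (TL.leaf [nat_lit 0]) (TL.leaf [nat_lit 2, nat_lit 3476, nat_lit 2345, nat_lit 2712, nat_lit 738, nat_lit 4087, nat_lit 128, nat_lit 3699, nat_lit 3250, nat_lit 560, nat_lit 3234, nat_lit 5671, nat_lit 3814, nat_lit 199, nat_lit 4614, nat_lit 2871, nat_lit 1117, nat_lit 3253, nat_lit 4629, nat_lit 5993, nat_lit 1567, nat_lit 2665, nat_lit 4425, nat_lit 2694, nat_lit 4369, nat_lit 80, nat_lit 1359])) (TL.leaf [nat_lit 2, nat_lit 3476, nat_lit 738])) (TL.node (TL.leaf [nat_lit 2]) (TL.leaf [nat_lit 2, nat_lit 3476, nat_lit 2345, nat_lit 738, nat_lit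 4087, nat_lit 3699, nat_lit 3234, nat_lit 3814, nat_lit 4629])))
noncomputable def O (i : ℕ) : List ℕ := TL.get O_t i
noncomputable def f1 : ℕ → ℕ := rvE Q B (nat_lit 12) Ru
noncomputable def f2 (j : ℕ) : ℕ := rlE I Ru (nat_lit 21) (nat_lit 9) (U j) (V1 j) (V2 j) (D j)
noncomputable def f3 : ℕ → ℕ := tgR I Ru (nat_lit 21) (nat_lit 3) (nat_lit 9) C D (nat_lit 25) La
noncomputable def f4 : ℕ → ℕ := chE Q B (nat_lit 6156) (nat_lit 12) (nat_lit 5) (nat_lit 7) Y O
theorem ra0 : Nat.beq (rng f1 (nat_lit 0) (nat_lit 21)) (nat_lit 0) = true := by decide +kernel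
theorem rb0 : Nat.beq (rng f2 (nat_lit 0) (nat_lit 24)) (nat_lit 0) = true := by decide +kernel
theorem rc0 : Nat.beq (rng f3 (nat_lit 0) (nat_lit 5)) (nat_lit 0) = true := by decide +kernel
theorem rd0 : Nat.beq (rng f4 (nat_lit 0) (nat_lit 5)) (nat_lit 0) = true := by decide +kernel
theorem h1 : ∀ i < 21, f1 i = 0 := by
  have h := zero_lt_zero f1
  have h := zero_lt_add (a := (nat_lit 0)) (n := (nat_lit 21)) (b := (nat_lit 21)) h ra0 rfl
  exact h
theorem h2 : ∀ i < 24, f2 i = 0 := by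
  have h := zero_lt_zero f2
  have h := zero_lt_add (a := (nat_lit 0)) (n := (nat_lit 24)) (b := (nat_lit 24)) h rb0 rfl
  exact h
theorem h3 : ∀ i < 5, f3 i = 0 := by
  have h := zero_lt_zero f3
  have h := zero_lt_add (a := (nat_lit 0)) (n := (nat_lit 5)) (b := (nat_lit 5)) h rc0 rfl
  exact h
theorem h4 : ∀ i < 5, f4 i = 0 := by
  have h := zero_lt_zero f4
  have h := zero_lt_add (a := (nat_lit 0)) (n := (nat_lit 5)) (b := (nat_lit 5)) h rd0 rfl
  exact h
theorem nok : NoK (J3.P) (3 ^ (1 + 1)) := fun _ _ _ _ h =>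
  (md.rv (I := I) (K := 21) rfl ⟨rfl, by decide⟩ (upTo_beq (by decide +kernel)) h1).core h (by norm_num)
    (md.syl (by norm_num) rfl (by decide) h4) (by rw [J3.card]; decide) (n := 9) (s := 1) (e := e) (L := Le) (C := C)
    ⟨rfl, by decide, rfl, by decide, by decide, rfl, by decide⟩ h2 (upTo_beq (by decide +kernel)) (upTo_beq (by decide +kernel)) h3

end Cfsg.Agent.Ct.J3s.S3
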